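import Cfsg.Agent.H36.Om7.Defs
import Cfsg.Agent.H372.O8R.Ord
import Cfsg.Agent.H160.QSpin

/-!
# S3691, row `PΩ⁺₈(q)`, data of `Ω₇(q)`: rotations of an anisotropic plane (helper367)
-/

set_option autoImplicit false

namespace Cfsg.Agent.H367.O7

open Module QuadraticMap Cfsg.Agent.LieClassical.OrthCore Cfsg.Agent.LieClassical.OrthTrans Cfsg.Agent.H883.Sub

/-- in the isometry group of an anisotropic plane a product of two reflections has order dividing `q + 1` -/
theorem rot_pow_plane {F U : Type*} [Field F] [Fintype F] [AddCommGroup U] [Module F U] [FiniteDimensional F U]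
    {Q : QuadraticForm F U} (h2 : (2 : F) ≠ 0) (hU : finrank F U = 2) (hani : ∀ v, Q v = 0 → v = 0)
    (r : O Q) (hr : LinearEquiv.det (r : U ≃ₗ[F] U) = 1) : r ^ (Nat.card F + 1) = 1 := by
  classical
  have hnd : Nondeg Q := H955.nondeg_of_aniso hU hani
  have hnp : ¬ H955.IsPlus Q := H955.not_isPlus_of_aniso hani (by rw [hU]; norm_num)
  have hcard := H372.O8R.card_O_minus 0 hnd (by rw [hU]) hnp
  simp only [zero_add, mul_zero, pow_zero, mul_one, pow_one, Finset.range_zero, Finset.prod_empty] at hcard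
  have hfin : Finite (O Q) := Nat.finite_of_card_ne_zero (by rw [hcard]; positivity)
  let δ : O Q →* Fˣ := LinearEquiv.det.comp (O Q).subtype
  have hδ : ∀ g : O Q, δ g = LinearEquiv.det (g : U ≃ₗ[F] U) := fun _ => rfl
  -- `-1` is in the range
  have hnt : Nontrivial U := Module.nontrivial_of_finrank_pos (R := F) (by omega)
  obtain ⟨a, ha⟩ := exists_ne (0 : U)
  have ha0 : Q a ≠ 0 := fun h => ha (hani a h)
  have hm : (-1 : Fˣ) ∈ δ.range := ⟨⟨refl Q a ha0, refl_mem_O ha0⟩, by rw [hδ]; exact H160.QSpin.det_refl ha0⟩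
  have h1 : orderOf (⟨-1, hm⟩ : δ.range) = 2 := by
    rw [Subgroup.orderOf_mk]
    apply orderOf_eq_prime
    · simp
    · intro h
      apply h2
      have h3 := congrArg Units.val h
      rw [Units.val_neg, Units.val_one] at h3
      linear_combination -h3
  have h3 : 2 ∣ Nat.card δ.range := by rw [← h1]; exact orderOf_dvd_natCard _
  obtain ⟨k, hk⟩ := h3
  have h4 : Nat.card δ.range * Nat.card δ.ker = Nat.card (O Q) := by
    rw [mul_comm, ← Subgroup.index_ker]
    exact Subgroup.card_mul_index δ.ker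
  rw [hk, hcard, mul_assoc] at h4
  have h5 : k * Nat.card δ.ker = Nat.card F + 1 := Nat.eq_of_mul_eq_mul_left two_pos h4
  have h6 : (⟨r, hr⟩ : δ.ker) ^ Nat.card δ.ker = 1 := pow_card_eq_one'
  have h7 : r ^ Nat.card δ.ker = 1 := congrArg Subtype.val h6
  rw [← h5, mul_comm, pow_mul, h7, one_pow]

/-- **rotations of an anisotropic plane of `V`** -/
theorem rot_pow {F V : Type*} [Field F] [Fintype F] [AddCommGroup V] [Module F V] [FiniteDimensional F V]
    {Q : QuadraticForm F V} (h2 : (2 : F) ≠ 0) (_hQ : Nondeg Q) {P : Submodule F V} (hP : finrank F P = 2)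
    (hP0 : ∀ v ∈ P, Q v = 0 → v = 0) {a c : V} (ha : a ∈ P) (hc : c ∈ P) (ha0 : Q a ≠ 0) (hc0 : Q c ≠ 0) :
    (refl Q a ha0 * refl Q c hc0) ^ (Nat.card F + 1) = 1 := by
  classical
  have hani : ∀ v : P, res Q P v = 0 → v = 0 := fun v hv => Subtype.ext (hP0 v v.2 hv)
  have hnd : Nondeg (res Q P) := H955.nondeg_of_aniso hP hani
  have hPn : NondegOn Q P := by
    intro y hy h
    have := hnd ⟨y, hy⟩ fun z => h z z.2
    exact congrArg Subtype.val this
  obtain ⟨a', rfl⟩ : ∃ a' : P, (a' : V) = a := ⟨⟨a, ha⟩, rfl⟩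
  obtain ⟨c', rfl⟩ : ∃ c' : P, (c' : V) = c := ⟨⟨c, hc⟩, rfl⟩
  have ha1 : res Q P a' ≠ 0 := ha0
  have hc1 : res Q P c' ≠ 0 := hc0
  obtain ⟨r, hr⟩ : ∃ r : O (res Q P), r = ⟨refl (res Q P) a' ha1, refl_mem_O ha1⟩ * ⟨refl (res Q P) c' hc1, refl_mem_O hc1⟩ :=
    ⟨_, rfl⟩
  have hrd : LinearEquiv.det (r : P ≃ₗ[F] P) = 1 := by
    rw [hr]
    change LinearEquiv.det (refl (res Q P) a' ha1 * refl (res Q P) c' hc1) = 1
    rw [map_mul, H160.QSpin.det_refl, H160.QSpin.det_refl]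
    simp
  have hr1 := rot_pow_plane h2 hP hani r hrd
  have hpol : ∀ x y : P, polar (res Q P) x y = polar Q (x : V) (y : V) := fun _ _ => rfl
  have hrefl : ∀ (x : P) (hx : res Q P x ≠ 0) (hx' : Q (x : V) ≠ 0) (v : P),
      refl Q (x : V) hx' v = (refl (res Q P) x hx v : V) := by
    intro x hx hx' v
    rw [refl_apply, refl_apply, hpol]
    rfl
  have hstep : ∀ v : P, (refl Q (a' : V) ha0 * refl Q (c' : V) hc0) (v : V) = ((r : P ≃ₗ[F] P) v : V) := by
    intro v
    rw [LinearEquiv.mul_apply, hrefl c' hc1, hrefl a' ha1, hr]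
    rfl
  have hfix : ∀ v ∈ perp Q P, (refl Q (a' : V) ha0 * refl Q (c' : V) hc0) v = v := by
    intro v hv
    have e1 : ∀ x : P, ∀ hx : Q (x : V) ≠ 0, refl Q (x : V) hx v = v := by
      intro x hx
      rw [refl_apply, mem_perp.1 hv x x.2, mul_zero, zero_smul, sub_zero]
    rw [LinearEquiv.mul_apply, e1, e1]
  generalize refl Q (a' : V) ha0 * refl Q (c' : V) hc0 = g at hstep hfix ⊢
  have hpow : ∀ (n : ℕ) (v : P), (g ^ n) (v : V) = (((r : P ≃ₗ[F] P) ^ n) v : V) := by
    intro n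
    induction n with
    | zero => intro v; rfl
    | succ n ih =>
      intro v
      rw [pow_succ, pow_succ, LinearEquiv.mul_apply, LinearEquiv.mul_apply, hstep, ih]
  have hfixn : ∀ (n : ℕ), ∀ v ∈ perp Q P, (g ^ n) v = v := by
    intro n
    induction n with
    | zero => intro v _; rfl
    | succ n ih =>
      intro v hv
      rw [pow_succ, LinearEquiv.mul_apply, hfix v hv, ih v hv]
  apply LinearEquiv.ext
  intro v
  obtain ⟨x, hx, y, hy, rfl⟩ := Submodule.mem_sup.1 (by rw [hPn.isCompl.sup_eq_top]; trivial : v ∈ P ⊔ perp Q P)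
  rw [map_add, hfixn _ y hy, hpow _ ⟨x, hx⟩]
  have h8 : (r : P ≃ₗ[F] P) ^ (Nat.card F + 1) = 1 := congrArg Subtype.val hr1
  rw [h8]
  rfl

end Cfsg.Agent.H367.O7
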